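import Cfsg.Agent.H742.EX.EPi
import Cfsg.Agent.H129.CycCard
import Cfsg.Agent.H648.Loc.E6Cent
import Cfsg.Agent.S1063
import Cfsg.Agent.S2227

/-!
# S5745: class sizes in `E₆(2)` and `²E₆(2)`, `r = 13`, and `r = 5` in `²E₆(2)` (helper686)
-/

set_option autoImplicit false

namespace Cfsg.Agent.H686.CB

open Cfsg Cfsg.Lie Cfsg.Agent.H742.EX

open scoped Pointwise

theorem cent_card {G : Type*} [Group G] (x : G) :
    Nat.card {g : G // g⁻¹ * x * g = x} = Nat.card ↥(Subgroup.centralizer {x}) := by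
  refine Nat.card_congr (Equiv.subtypeEquivRight fun g => ?_)
  rw [Subgroup.mem_centralizer_singleton_iff]
  constructor
  · intro h
    have h1 : g * (g⁻¹ * x * g) = g * x := by rw [h]
    rw [← h1]
    group
  · intro h
    rw [mul_assoc, ← h]
    group

/-- class size from a bound for the centraliser -/
theorem cG_ge {G : Type*} [Group G] [Finite G] {x : G} {n K c : ℕ} (hn : Nat.card G = n)
    (hK : Nat.card ↥(Subgroup.centralizer {x}) ≤ K) (h : c * K ≤ n) : c ≤ cG x := by
  have h1 := card_G x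
  rw [cent_card] at h1
  by_contra hcon
  push Not at hcon
  have hK0 : 0 < Nat.card ↥(Subgroup.centralizer {x}) := Nat.card_pos
  have h2 : cG x * Nat.card ↥(Subgroup.centralizer {x}) < c * K :=
    lt_of_lt_of_le (Nat.mul_lt_mul_of_pos_right hcon hK0) (Nat.mul_le_mul_left c hK)
  rw [← h1, hn] at h2
  exact absurd h (not_le.2 h2)

section E6

variable {F : Type*} [Field F] [Fintype F] (hF : Fintype.card F = 2)

include hF

theorem card_e6 : Nat.card ↥(chevE6.group F) = 214841575522005575270400 := by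
  have h := Cfsg.Agent.S1063.result hF
  norm_num at h
  exact h

/-- `E₆(2)`, `r = 13` -/
theorem e6_cent13 {x : ↥(chevE6.group F)} (hx : orderOf x = 13) : Nat.card ↥(Subgroup.centralizer {x}) ≤ 91 := by
  have hfin : Finite ↥(chevE6.group F) := Nat.finite_of_card_ne_zero (by rw [card_e6 hF]; norm_num)
  have h13 : Nat.Prime 13 := by norm_num
  have hf13 : Fact (Nat.Prime 13) := ⟨h13⟩
  obtain ⟨T, -, h2, -, h4, h5⟩ := Cfsg.Agent.H129.CycCard.card_E6_12 hF (m := 91) (by norm_num) h13 (by norm_num)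
  have hT91 : Nat.card ↥T ≤ 91 := Nat.le_of_dvd (by norm_num) h2
  obtain ⟨y, hy⟩ := exists_prime_orderOf_dvd_card' 13 h4
  have hyo : orderOf (y : ↥(chevE6.group F)) = 13 := by rw [Subgroup.orderOf_coe, hy]
  have hfac : (Nat.card ↥(chevE6.group F)).factorization 13 = 1 := by
    rw [card_e6 hF]
    have e : 214841575522005575270400 = 13 * 16526275040154275020800 := by norm_num
    rw [e, Nat.factorization_mul (by norm_num) (by norm_num), Finsupp.add_apply, h13.factorization_self,
      Nat.factorization_eq_zero_of_not_dvd (by norm_num)]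
  have hsyl : ∀ z : ↥(chevE6.group F), orderOf z = 13 → ∃ P : Sylow 13 ↥(chevE6.group F), (P : Subgroup _) = Subgroup.zpowers z := by
    intro z hz
    exact ⟨Sylow.ofCard (Subgroup.zpowers z) (by rw [Nat.card_zpowers, hz, hfac, pow_one]), rfl⟩
  obtain ⟨P, hP⟩ := hsyl _ hyo
  obtain ⟨Q, hQ⟩ := hsyl _ hx
  obtain ⟨g, hg⟩ := MulAction.exists_smul_eq ↥(chevE6.group F) P Q
  have h6 : x ∈ (g • P : Sylow 13 ↥(chevE6.group F)) := by
    rw [hg]
    show x ∈ (Q : Subgroup _)
    rw [hQ]
    exact Subgroup.mem_zpowers x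
  have h7 : x ∈ MulAut.conj g • (P : Subgroup ↥(chevE6.group F)) := h6
  rw [hP, Subgroup.mem_smul_pointwise_iff_exists] at h7
  obtain ⟨z, hz, e1⟩ := h7
  have e2 : g * z * g⁻¹ = x := e1
  have hzT : z ∈ T := (Subgroup.zpowers_le.2 y.2) hz
  have hzo : orderOf z = 13 := by
    rw [← hx, ← e2]
    exact (orderOf_injective (MulAut.conj g).toMonoidHom (MulAut.conj g).injective z).symm
  refine le_trans ?_ hT91
  refine Nat.card_le_card_of_injective (fun c : Subgroup.centralizer ({x} : Set ↥(chevE6.group F)) =>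
    (⟨g⁻¹ * (c : ↥(chevE6.group F)) * g, h5 z hzT hzo ?_⟩ : T)) ?_
  · have h9 := Subgroup.mem_centralizer_singleton_iff.1 c.2
    rw [Subgroup.mem_centralizer_singleton_iff]
    have e3 : z = g⁻¹ * x * g := by rw [← e2]; group
    rw [e3]
    calc g⁻¹ * (c : ↥(chevE6.group F)) * g * (g⁻¹ * x * g) = g⁻¹ * ((c : ↥(chevE6.group F)) * x) * g := by group
      _ = g⁻¹ * (x * (c : ↥(chevE6.group F))) * g := by rw [h9]
      _ = _ := by group
  · intro a b hab
    have h9 : g⁻¹ * (a : ↥(chevE6.group F)) * g = g⁻¹ * (b : ↥(chevE6.group F)) * g := congrArg Subtype.val hab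
    exact Subtype.ext (mul_left_cancel (mul_right_cancel h9))

theorem e6_c13 (x : ↥(chevE6.group F)) (hx : orderOf x = 13) : 2 ^ 70 ≤ cG x := by
  have hfin : Finite ↥(chevE6.group F) := Nat.finite_of_card_ne_zero (by rw [card_e6 hF]; norm_num)
  exact cG_ge (card_e6 hF) (e6_cent13 hF hx) (by norm_num)

end E6

section TE6

variable {K : Type*} [Field K] [Fintype K] (hK : Fintype.card K = 4)

include hK

theorem card_te6 : Nat.card ↥(twistedE6 K 2) = 76532479683774853939200 := Cfsg.Agent.BabyU.CentT1.card_E K hK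

theorem te6_c13 (x : ↥(twistedE6 K 2)) (hx : orderOf x = 13) : 2 ^ 70 ≤ cG x := by
  have hfin : Finite ↥(twistedE6 K 2) := Nat.finite_of_card_ne_zero (by rw [card_te6 hK]; norm_num)
  exact cG_ge (card_te6 hK) (Cfsg.Agent.H648.Loc.e6_cent hK hx).1 (by norm_num)

theorem te6_c5 (x : ↥(twistedE6 K 2)) (hx : orderOf x = 5) : 2 ^ 59 ≤ cG x := by
  have hfin : Finite ↥(twistedE6 K 2) := Nat.finite_of_card_ne_zero (by rw [card_te6 hK]; norm_num)
  obtain ⟨i⟩ := (Cfsg.Agent.S2227.result hK).2 x hx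
  have h1 : Nat.card ↥(Subgroup.centralizer {x}) = 5 * 20160 := by
    rw [Nat.card_congr i.toEquiv, Nat.card_prod, Nat.card_congr Multiplicative.toAdd, Nat.card_zmod]
    congr 1
    rw [Nat.card_eq_fintype_card]
    have h2 := two_mul_card_alternatingGroup (α := Fin 8)
    rw [Fintype.card_perm, Fintype.card_fin] at h2
    have h3 : Nat.factorial 8 = 40320 := by decide
    rw [h3] at h2
    omega
  exact cG_ge (card_te6 hK) h1.le (by norm_num)

end TE6

end Cfsg.Agent.H686.CB
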